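import Groth.Agent.Lib.HensSpec.Basic
import Groth.Agent.Lib.Hensel.Properties
import Mathlib.RingTheory.Localization.Away.Basic

/-!
# Sections of Henselian schemes form Henselian pairs with the ideal of vanishing sections
-/

universe u

open CategoryTheory Opposite TopologicalSpace AlgebraicGeometry

namespace GrothLib.HensSpec

/-- Modulo the ideal, the Henselization consists of fractions. -/
theorem exists_sub_mem {A : Type u} [CommRing A] {I : Ideal A} {f : A} {B : Type u} [CommRing B]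
    {φ : A →+* B} (h : HensSch.IsHensAway A I f B φ) (r : B) :
    ∃ (a : A) (n : ℕ), r * φ f ^ n - φ a ∈ I.map φ := by
  obtain ⟨hf, -, huniv⟩ := h
  let q : A →+* B ⧸ I.map φ := (Ideal.Quotient.mk _).comp φ
  have hqf : IsUnit (q f) := hf.map (Ideal.Quotient.mk (I.map φ))
  let qI : A ⧸ I →+* B ⧸ I.map φ := Ideal.Quotient.lift I q fun a ha =>
    Ideal.Quotient.eq_zero_iff_mem.mpr (Ideal.mem_map_of_mem φ ha)
  let C := Localization.Away (Ideal.Quotient.mk I f)
  let g : A →+* C := (algebraMap (A ⧸ I) C).comp (Ideal.Quotient.mk I)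
  have hbot : I.map g ≤ ⊥ := Ideal.map_le_iff_le_comap.mpr fun a ha => by
    show algebraMap (A ⧸ I) C (Ideal.Quotient.mk I a) = 0
    rw [Ideal.Quotient.eq_zero_iff_mem.mpr ha, map_zero]
  have hC : HenselianRing C (⊥ : Ideal C) :=
    GrothLib.Hensel.henselianRing_of_isNilpotent ⊥ fun x hx => ⟨1, by simpa using hx⟩
  obtain ⟨ρ, hρ, -⟩ := huniv C ⊥ g hC hbot (IsLocalization.Away.algebraMap_isUnit (S := C) (Ideal.Quotient.mk I f))
  let L : C →+* B ⧸ I.map φ := IsLocalization.Away.lift (Ideal.Quotient.mk I f) (g := qI) hqf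
  have hL : ∀ a, L (g a) = q a := fun a =>
    (IsLocalization.Away.lift_eq (S := C) (g := qI) (Ideal.Quotient.mk I f) hqf
      (Ideal.Quotient.mk I a)).trans (Ideal.Quotient.lift_mk I q _)
  have hQ : HenselianRing (B ⧸ I.map φ) (⊥ : Ideal (B ⧸ I.map φ)) :=
    GrothLib.Hensel.henselianRing_of_isNilpotent ⊥ fun x hx => ⟨1, by simpa using hx⟩
  have hmk : Ideal.Quotient.mk (I.map φ) = L.comp ρ := by
    refine (huniv (B ⧸ I.map φ) ⊥ q hQ ?_ hqf).unique rfl ?_
    · rw [← Ideal.map_map, Ideal.map_quotient_self]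
    · rw [RingHom.comp_assoc, hρ]
      exact RingHom.ext hL
  obtain ⟨n, c, hc⟩ := IsLocalization.Away.surj (Ideal.Quotient.mk I f) (ρ r)
  obtain ⟨a, rfl⟩ := Ideal.Quotient.mk_surjective c
  refine ⟨a, n, ?_⟩
  rw [← Ideal.Quotient.eq]
  have := congrArg L hc
  rw [map_mul, map_pow] at this
  rw [map_mul, map_pow, hmk]
  show L (ρ r) * L (ρ (φ f)) ^ n = L (ρ (φ a))
  rw [show ρ (φ f) = g f from RingHom.congr_fun hρ f, show ρ (φ a) = g a from RingHom.congr_fun hρ a]
  exact this

variable {X : LocallyRingedSpace.{u}}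

/-- An element of the Henselization agrees with a fraction at the vanishing locus. -/
theorem exists_mem_basicOpen_iff {A : Type u} [CommRing A] {I : Ideal A} {f : A} {B : Opens X}
    {φ : A →+* Sec X B} (h : HensSch.IsHensAway A I f (Sec X B) φ) (hI : I.map φ ≤ van B)
    (r : Sec X B) :
    ∃ (a : A) (n : ℕ), r * φ f ^ n - φ a ∈ I.map φ ∧ ∀ x ∈ B,
      (x ∈ X.toRingedSpace.basicOpen r ↔ x ∈ X.toRingedSpace.basicOpen (φ a)) := by
  obtain ⟨a, n, hn⟩ := exists_sub_mem h r
  refine ⟨a, n, hn, fun x hx => ?_⟩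
  rw [← mem_basicOpen_add (hI hn) x (s := φ a), add_sub_cancel, mem_basicOpen_mul]
  exact ⟨fun hr => ⟨hr, mem_basicOpen_of_isUnit (h.1.pow n) hx⟩, fun hr => hr.1⟩

/-- If every prime containing `I` and missing `f` is a point, vanishing sections form a Henselian ideal. -/
theorem henselianRing_van {A : Type u} [CommRing A] {I : Ideal A} {f : A} {B : Opens X}
    {φ : A →+* Sec X B} (h : HensSch.IsHensAway A I f (Sec X B) φ) (hI : I.map φ ≤ van B)
    (hpts : ∀ p : PrimeSpectrum A, I ≤ p.asIdeal → f ∉ p.asIdeal → ∃ x ∈ B,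
      ∀ a, (x ∈ X.toRingedSpace.basicOpen (φ a) ↔ a ∉ p.asIdeal)) :
    HenselianRing (Sec X B) (van B) := by
  refine (GrothLib.Hensel.henselianRing_iff_of_radical_eq ?_).mp h.2.1
  refine le_antisymm (Ideal.radical_mono hI) (Ideal.radical_le_radical_iff.mpr fun s hs => ?_)
  rw [Ideal.radical_eq_sInf, Ideal.mem_sInf]
  rintro P ⟨hP, hPprime⟩
  obtain ⟨a, n, hn, hax⟩ := exists_mem_basicOpen_iff h hI s
  have hfP : φ f ∉ P := fun hc => hPprime.ne_top (P.eq_top_of_isUnit_mem hc h.1)
  obtain ⟨x, hx, hxa⟩ := hpts ⟨P.comap φ, hPprime.comap φ⟩ (Ideal.map_le_iff_le_comap.mp hP) hfP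
  have haP : φ a ∈ P := not_not.mp fun hc =>
    mem_van.mp hs x hx ((hax x hx).mpr ((hxa a).mpr hc))
  have hsP : s * φ f ^ n ∈ P := by
    simpa using add_mem (hP hn) haP
  exact (hPprime.mem_or_mem hsP).resolve_right fun hc => hfP (hPprime.mem_of_pow_mem n hc)

/-- Glueing roots. -/
theorem henselianRing_van_of_locally
    (hX : ∀ (U : Opens X) (x : X), x ∈ U → ∃ V ≤ U, x ∈ V ∧ HenselianRing (Sec X V) (van V))
    (U : Opens X) : HenselianRing (Sec X U) (van U) := by
  refine ⟨van_le_jacobson U, fun F hF a₀ hev hder => ?_⟩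
  have hd : ∀ x ∈ U, x ∈ X.toRingedSpace.basicOpen (F.derivative.eval a₀) := fun x hx =>
    mem_basicOpen_of_isUnit (GrothLib.Hensel.isUnit_of_isUnit_mk (van_le_jacobson U) hder) hx
  have uniq : ∀ (W : Opens X) (hW : W ≤ U) (a b : Sec X W), (F.map (res hW)).IsRoot a →
      (F.map (res hW)).IsRoot b → a - res hW a₀ ∈ van W → b - res hW a₀ ∈ van W → a = b := by
    intro W hW a b ha hb hav hbv
    obtain ⟨k, hk⟩ := Polynomial.binomExpansion (F.map (res hW)) a (b - a)
    rw [add_sub_cancel, ha.eq_zero, hb.eq_zero, zero_add] at hk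
    have hab : b - a ∈ van W := by
      rw [show b - a = (b - res hW a₀) - (a - res hW a₀) by ring]
      exact sub_mem hbv hav
    have hunit : IsUnit ((F.map (res hW)).derivative.eval a + k * (b - a)) := by
      refine isUnit_of_forall_mem fun x hx => ?_
      rw [mem_basicOpen_add (Ideal.mul_mem_left _ k hab)]
      obtain ⟨c, hc⟩ := Polynomial.sub_dvd_eval_sub a (res hW a₀) (F.map (res hW)).derivative
      rw [sub_eq_iff_eq_add'.mp hc, mem_basicOpen_add (Ideal.mul_mem_right c _ hav),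
        Polynomial.derivative_map, Polynomial.eval_map, Polynomial.eval₂_at_apply, mem_basicOpen_res]
      exact ⟨hx, hd x (hW hx)⟩
    have : ((F.map (res hW)).derivative.eval a + k * (b - a)) * (b - a) = 0 := by
      rw [hk]; ring
    exact (sub_eq_zero.mp (hunit.mul_right_eq_zero.mp this)).symm
  have hloc : ∀ x : U, ∃ (V : Opens X) (hV : V ≤ U), x.1 ∈ V ∧
      ∃ a, (F.map (res hV)).IsRoot a ∧ a - res hV a₀ ∈ van V := fun x => by
    obtain ⟨V, hV, hxV, hVh⟩ := hX U x.1 x.2
    refine ⟨V, hV, hxV, hVh.is_henselian _ (hF.map _) _ ?_ ?_⟩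
    · rw [Polynomial.eval_map, Polynomial.eval₂_at_apply]
      exact res_mem_van hV hev
    · rw [Polynomial.derivative_map, Polynomial.eval_map, Polynomial.eval₂_at_apply]
      exact (isUnit_res hV fun y hy => hd y (hV hy)).map _
  choose V hV hxV a hroot hvan using hloc
  have hmap : ∀ (V' W : Opens X) (h₁ : V' ≤ U) (h₂ : W ≤ V') (b : Sec X V'),
      (F.map (res h₁)).IsRoot b → (F.map (res (h₂.trans h₁))).IsRoot (res h₂ b) := by
    intro V' W h₁ h₂ b hb
    have e : F.map (res (h₂.trans h₁)) = (F.map (res h₁)).map (res h₂) := by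
      rw [Polynomial.map_map]
      congr 1
      exact RingHom.ext fun s => (res_res h₁ h₂ s).symm
    rw [e]
    exact hb.map
  have hcompat : TopCat.Presheaf.IsCompatible X.𝒪.1 V a := fun i j => by
    show res (inf_le_left : V i ⊓ V j ≤ V i) (a i) = res (inf_le_right : V i ⊓ V j ≤ V j) (a j)
    refine uniq _ (inf_le_left.trans (hV i)) _ _ (hmap _ _ (hV i) inf_le_left _ (hroot i))
      (hmap _ _ (hV j) inf_le_right _ (hroot j)) ?_ ?_
    · have := res_mem_van (inf_le_left : V i ⊓ V j ≤ V i) (hvan i)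
      rwa [map_sub, res_res] at this
    · have := res_mem_van (inf_le_right : V i ⊓ V j ≤ V j) (hvan j)
      rwa [map_sub, res_res] at this
  obtain ⟨s, hs, -⟩ := X.𝒪.existsUnique_gluing' V U (fun i => homOfLE (hV i))
    (fun x hx => Opens.mem_iSup.mpr ⟨⟨x, hx⟩, hxV _⟩) a hcompat
  have hs' : ∀ i, res (hV i) s = a i := hs
  refine ⟨s, eq_of_locally _ _ fun x hx => ⟨V ⟨x, hx⟩, hV _, hxV _, ?_⟩, mem_van.mpr fun x hx hb => ?_⟩
  · rw [map_zero, ← Polynomial.eval₂_at_apply, ← Polynomial.eval_map, hs']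
    exact hroot _
  · refine mem_van.mp (hvan ⟨x, hx⟩) x (hxV _) ?_
    rw [← hs', ← map_sub, mem_basicOpen_res]
    exact ⟨hxV _, hb⟩

/-- An open immersion induces isomorphisms on sections inside its range. -/
theorem bijective_pull {Y : LocallyRingedSpace.{u}} (i : X ⟶ Y) [LocallyRingedSpace.IsOpenImmersion i]
    (U : Opens Y) (hU : (U : Set Y) ⊆ Set.range i.base) : Function.Bijective (pull i U) := by
  haveI : PresheafedSpace.IsOpenImmersion i.toHom := inferInstance
  have he : (PresheafedSpace.IsOpenImmersion.opensFunctor i.toHom).obj ((Opens.map i.base).obj U) = U :=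
    Opens.ext (Set.image_preimage_eq_of_subset hU)
  have h : IsIso (i.c.app (op U)) := by
    have h1 := PresheafedSpace.IsOpenImmersion.c_iso (f := i.toHom) ((Opens.map i.base).obj U)
    have key : ∀ O : Opens Y, O = U → IsIso (i.c.app (op O)) → IsIso (i.c.app (op U)) := by
      rintro O rfl h; exact h
    exact key _ he h1
  exact ConcreteCategory.bijective_of_isIso (i.c.app (op U))

theorem henselianRing_of_bijective {R S : Type u} [CommRing R] [CommRing S] (e : R →+* S)
    (he : Function.Bijective e) (I : Ideal R) (J : Ideal S) (hIJ : ∀ r, r ∈ I ↔ e r ∈ J)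
    [HenselianRing S J] : HenselianRing R I := by
  let E := RingEquiv.ofBijective e he
  refine ⟨fun r hr => ?_, fun F hF a₀ h₁ h₂ => ?_⟩
  · rw [Ideal.mem_jacobson_bot]
    intro c
    have := (Ideal.mem_jacobson_bot.mp (HenselianRing.jac ((hIJ r).mp hr))) (e c)
    rw [← map_mul, ← map_one e, ← map_add] at this
    have := this.map E.symm
    rwa [show E.symm (e (r * c + 1)) = r * c + 1 from E.symm_apply_apply _] at this
  · let ē : R ⧸ I →+* S ⧸ J := Ideal.quotientMap J e fun r hr => (hIJ r).mp hr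
    obtain ⟨a, ha, hmem⟩ := HenselianRing.is_henselian (I := J) (F.map e) (hF.map e) (e a₀)
      (by rw [Polynomial.eval_map, Polynomial.eval₂_at_apply]; exact (hIJ _).mp h₁)
      (by
        rw [Polynomial.derivative_map, Polynomial.eval_map, Polynomial.eval₂_at_apply]
        exact h₂.map ē)
    obtain ⟨r, rfl⟩ := he.2 a
    refine ⟨r, ?_, (hIJ _).mpr (by rwa [map_sub])⟩
    rw [Polynomial.IsRoot, Polynomial.eval_map, Polynomial.eval₂_at_apply, ← map_zero e] at ha
    exact he.1 ha

theorem mem_van_pull_iff {Y : LocallyRingedSpace.{u}} (i : X ⟶ Y) (U : Opens Y)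
    (hU : (U : Set Y) ⊆ Set.range i.base) (s : Sec Y U) :
    s ∈ van U ↔ pull i U s ∈ van ((Opens.map i.base).obj U) := by
  simp only [mem_van]
  constructor
  · intro h x hx hb
    exact h (i.base x) hx ((mem_basicOpen_pull i U s x).mp hb)
  · intro h y hy hb
    obtain ⟨x, rfl⟩ := hU hy
    exact h x hy ((mem_basicOpen_pull i U s x).mpr hb)

/-- The map on global sections induced by a map to an affine scheme. -/
noncomputable def glob {A : Type u} [CommRing A] (π : X ⟶ HensSch.specLRS A) : A →+* Sec X ⊤ :=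
  (π.c.app (op ⊤)).hom.comp (Scheme.ΓSpecIso (CommRingCat.of A)).inv.hom

theorem mem_basicOpen_glob {A : Type u} [CommRing A] (π : X ⟶ HensSch.specLRS A) (a : A) (x : X) :
    x ∈ X.toRingedSpace.basicOpen (glob π a) ↔ a ∉ PrimeSpectrum.asIdeal (π.base x) := by
  have h := mem_basicOpen_pull π ⊤ ((Scheme.ΓSpecIso (CommRingCat.of A)).inv a) x
  have hb : (HensSch.specLRS A).toRingedSpace.basicOpen (U := ⊤)
      ((Scheme.ΓSpecIso (CommRingCat.of A)).inv a) = PrimeSpectrum.basicOpen a :=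
    AlgebraicGeometry.basicOpen_eq_of_affine (R := CommRingCat.of A) a
  rw [hb] at h
  exact h

theorem mem_basicOpen_secMap {A : Type u} [CommRing A] (π : X ⟶ HensSch.specLRS A)
    (U : Opens (PrimeSpectrum A)) (a : A) (x : X) :
    x ∈ X.toRingedSpace.basicOpen (HensSch.secMap π U a) ↔
      π.base x ∈ U ∧ a ∉ PrimeSpectrum.asIdeal (π.base x) := by
  rw [← mem_basicOpen_glob π a x]
  exact mem_basicOpen_res (X := X) (U := ⊤) _ (glob π a) x

theorem map_secMap_le_van {A : Type u} [CommRing A] {I : Ideal A} (π : X ⟶ HensSch.specLRS A)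
    (hπ : Set.range π.base ⊆ PrimeSpectrum.zeroLocus (I : Set A)) (U : Opens (PrimeSpectrum A)) :
    I.map (HensSch.secMap π U) ≤ van ((Opens.map π.base).obj U) :=
  Ideal.map_le_iff_le_comap.mpr fun a ha => mem_van.mpr fun x _ hb =>
    ((mem_basicOpen_secMap π U a x).mp hb).2 (hπ ⟨x, rfl⟩ ha)

theorem henselianRing_van_dOpen {A : Type u} [CommRing A] {I : Ideal A} {π : X ⟶ HensSch.specLRS A}
    (h : HensSch.IsSph A I X π) (f : A) :
    HenselianRing (Sec X (HensSch.dOpen π f)) (van (HensSch.dOpen π f)) := by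
  refine henselianRing_van (h.2.2 f) (map_secMap_le_van π h.2.1.le _) fun p hp hfp => ?_
  obtain ⟨x, rfl⟩ : p ∈ Set.range π.base := h.2.1.ge hp
  exact ⟨x, hfp, fun a => (mem_basicOpen_secMap π _ a x).trans ⟨fun h => h.2, fun h => ⟨hfp, h⟩⟩⟩

theorem exists_dOpen_le {A : Type u} [CommRing A] {I : Ideal A} {π : X ⟶ HensSch.specLRS A}
    (h : HensSch.IsSph A I X π) (O : Opens X) (x : X) (hx : x ∈ O) :
    ∃ f : A, x ∈ HensSch.dOpen π f ∧ HensSch.dOpen π f ≤ O := by
  obtain ⟨O', hO', he⟩ := h.1.toIsInducing.isOpen_iff.mp O.isOpen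
  have hx' : π.base x ∈ O' := by
    have : x ∈ π.base ⁻¹' O' := he ▸ hx
    exact this
  obtain ⟨_, ⟨f, rfl⟩, hxf, hfO⟩ :=
    PrimeSpectrum.isTopologicalBasis_basic_opens.exists_subset_of_mem_open hx' hO'
  refine ⟨f, hxf, fun y hy => ?_⟩
  show y ∈ (O : Set X)
  rw [← he]
  exact hfO hy

/-- In a Henselian scheme, sections over any open form a Henselian pair with the vanishing ideal. -/
theorem henselianRing_of_isHensScheme (hX : HensSch.IsHensScheme X) (U : Opens X) :
    HenselianRing (Sec X U) (van U) := by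
  refine henselianRing_van_of_locally (fun O x hx => ?_) U
  obtain ⟨W, i, hi, ⟨w, rfl⟩, A, _, I, π, -, -, hS⟩ := hX x
  obtain ⟨f, hwf, hfO⟩ := exists_dOpen_le hS ((Opens.map i.base).obj O) w hx
  haveI : PresheafedSpace.IsOpenImmersion i.toHom := inferInstance
  let V : Opens X := ⟨i.base '' (HensSch.dOpen π f : Set W),
    PresheafedSpace.IsOpenImmersion.base_open.isOpenMap _ (HensSch.dOpen π f).isOpen⟩
  have hV : (Opens.map i.base).obj V = HensSch.dOpen π f :=
    Opens.ext (Set.preimage_image_eq _ (PresheafedSpace.IsOpenImmersion.base_open (f := i.toHom)).injective)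
  have hrange : (V : Set X) ⊆ Set.range i.base := Set.image_subset_range _ _
  refine ⟨V, ?_, ⟨w, hwf, rfl⟩, ?_⟩
  · rintro _ ⟨y, hy, rfl⟩
    exact hfO hy
  · haveI : HenselianRing (Sec W ((Opens.map i.base).obj V)) (van _) :=
      hV ▸ henselianRing_van_dOpen hS f
    exact henselianRing_of_bijective (pull i V) (bijective_pull i V hrange) _ _
      (mem_van_pull_iff i V hrange)

end GrothLib.HensSpec
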