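import Groth.Prelude.Def_HensSch

/-!
# Sections of locally ringed spaces vanishing at every point; basic lemmas
-/

universe u

open CategoryTheory Opposite TopologicalSpace AlgebraicGeometry

namespace GrothLib.HensSpec

/-- The ring of sections. -/
abbrev Sec (X : LocallyRingedSpace.{u}) (U : Opens X) : Type u := X.presheaf.obj (op U)

variable {X Y Z : LocallyRingedSpace.{u}}

/-- Restriction of sections. -/
noncomputable def res {U V : Opens X} (h : V ≤ U) : Sec X U →+* Sec X V :=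
  (X.presheaf.map (homOfLE h).op).hom

/-- Pullback of sections. -/
noncomputable def pull (g : X ⟶ Y) (U : Opens Y) : Sec Y U →+* Sec X ((Opens.map g.base).obj U) :=
  (g.c.app (op U)).hom

theorem res_res {U V W : Opens X} (h₁ : V ≤ U) (h₂ : W ≤ V) (s : Sec X U) :
    res h₂ (res h₁ s) = res (h₂.trans h₁) s :=
  (ConcreteCategory.congr_hom (X.presheaf.map_comp (homOfLE h₁).op (homOfLE h₂).op) s).symm

theorem res_refl {U : Opens X} (h : U ≤ U) (s : Sec X U) : res h s = s :=
  ConcreteCategory.congr_hom (X.presheaf.map_id (op U)) s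

theorem pull_res (g : X ⟶ Y) {U V : Opens Y} (h : V ≤ U) (s : Sec Y U) :
    pull g V (res h s) =
      res (show (Opens.map g.base).obj V ≤ (Opens.map g.base).obj U from fun _ hx => h hx) (pull g U s) :=
  ConcreteCategory.congr_hom (g.c.naturality (homOfLE h).op) s

theorem pull_comp (f : X ⟶ Y) (g : Y ⟶ Z) (U : Opens Z) (s : Sec Z U) :
    pull (f ≫ g) U s = pull f ((Opens.map g.base).obj U) (pull g U s) := rfl

theorem res_pull_congr {f g : X ⟶ Y} (hfg : f = g) (U : Opens Y) (W : Opens X)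
    (h₁ : W ≤ (Opens.map f.base).obj U) (h₂ : W ≤ (Opens.map g.base).obj U) (s : Sec Y U) :
    res h₁ (pull f U s) = res h₂ (pull g U s) := by
  subst hfg
  rfl

theorem isUnit_res {U V : Opens X} (h : V ≤ U) {s : Sec X U}
    (hs : ∀ x ∈ V, x ∈ X.toRingedSpace.basicOpen s) : IsUnit (res h s) := by
  refine X.toRingedSpace.isUnit_of_isUnit_germ V _ fun x hx => ?_
  rw [show (ConcreteCategory.hom (X.toRingedSpace.presheaf.germ V x hx)) (res h s) =
    X.presheaf.germ U x (h hx) s from TopCat.Presheaf.germ_res_apply X.presheaf (homOfLE h) x hx s]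
  exact (X.toRingedSpace.mem_basicOpen s x (h hx)).mp (hs x hx)

theorem isUnit_of_forall_mem {U : Opens X} {s : Sec X U}
    (hs : ∀ x ∈ U, x ∈ X.toRingedSpace.basicOpen s) : IsUnit s := by
  simpa [res_refl] using isUnit_res (le_refl U) hs

theorem mem_basicOpen_res {U V : Opens X} (h : V ≤ U) (s : Sec X U) (x : X) :
    x ∈ X.toRingedSpace.basicOpen (res h s) ↔ x ∈ V ∧ x ∈ X.toRingedSpace.basicOpen s := by
  rw [show res h s = X.toRingedSpace.presheaf.map (homOfLE h).op s from rfl,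
    RingedSpace.basicOpen_res]
  exact Iff.rfl

theorem mem_basicOpen_pull (g : X ⟶ Y) (U : Opens Y) (s : Sec Y U) (x : X) :
    x ∈ X.toRingedSpace.basicOpen (pull g U s) ↔ g.base x ∈ Y.toRingedSpace.basicOpen s := by
  have h := congrArg (fun O : Opens X => x ∈ O) (LocallyRingedSpace.preimage_basicOpen g s)
  exact (Iff.of_eq h).symm

theorem mem_basicOpen_of_isUnit {U : Opens X} {s : Sec X U} (hs : IsUnit s) {x : X} (hx : x ∈ U) :
    x ∈ X.toRingedSpace.basicOpen s := by
  rw [RingedSpace.basicOpen_of_isUnit _ hs]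
  exact hx

theorem mem_basicOpen_mul {U : Opens X} (s t : Sec X U) (x : X) :
    x ∈ X.toRingedSpace.basicOpen (s * t) ↔
      x ∈ X.toRingedSpace.basicOpen s ∧ x ∈ X.toRingedSpace.basicOpen t := by
  rw [RingedSpace.basicOpen_mul]
  rfl

theorem mem_basicOpen_le {U : Opens X} {s : Sec X U} {x : X} (h : x ∈ X.toRingedSpace.basicOpen s) :
    x ∈ U :=
  X.toRingedSpace.basicOpen_le s h

theorem not_mem_basicOpen_iff {U : Opens X} (s : Sec X U) {x : X} (hx : x ∈ U) :
    x ∉ X.toRingedSpace.basicOpen s ↔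
      (X.presheaf.germ U x hx).hom s ∈ IsLocalRing.maximalIdeal (X.presheaf.stalk x) := by
  rw [X.toRingedSpace.mem_basicOpen s x hx, IsLocalRing.mem_maximalIdeal, mem_nonunits_iff]

/-- The ideal of sections vanishing at all points of a set. -/
noncomputable def vanOn (U : Opens X) (S : Set X) : Ideal (Sec X U) :=
  ⨅ x : {x : X // x ∈ U ∧ x ∈ S},
    (IsLocalRing.maximalIdeal (X.presheaf.stalk x.1)).comap (X.presheaf.germ U x.1 x.2.1).hom

theorem mem_vanOn {U : Opens X} {S : Set X} {s : Sec X U} :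
    s ∈ vanOn U S ↔ ∀ x ∈ U, x ∈ S → x ∉ X.toRingedSpace.basicOpen s := by
  simp only [vanOn, Ideal.mem_iInf, Ideal.mem_comap, Subtype.forall]
  exact ⟨fun h x hx hS => (not_mem_basicOpen_iff s hx).mpr (h x ⟨hx, hS⟩),
    fun h x hx => (not_mem_basicOpen_iff s hx.1).mp (h x hx.1 hx.2)⟩

/-- The sections vanishing at every point. -/
noncomputable abbrev van (U : Opens X) : Ideal (Sec X U) := vanOn U Set.univ

theorem mem_van {U : Opens X} {s : Sec X U} :
    s ∈ van U ↔ ∀ x ∈ U, x ∉ X.toRingedSpace.basicOpen s := by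
  rw [mem_vanOn]
  exact forall₂_congr fun x _ => ⟨fun h => h trivial, fun h _ => h⟩

theorem res_mem_van {U V : Opens X} (h : V ≤ U) {s : Sec X U} (hs : s ∈ van U) :
    res h s ∈ van V :=
  mem_van.mpr fun x hx hb => mem_van.mp hs x (h hx) ((mem_basicOpen_res h s x).mp hb).2

theorem mem_basicOpen_add {U : Opens X} {s t : Sec X U} (ht : t ∈ van U) (x : X) :
    x ∈ X.toRingedSpace.basicOpen (s + t) ↔ x ∈ X.toRingedSpace.basicOpen s := by
  by_cases hx : x ∈ U
  · rw [← not_iff_not, not_mem_basicOpen_iff _ hx, not_mem_basicOpen_iff _ hx, map_add]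
    exact Ideal.add_mem_iff_left _ ((not_mem_basicOpen_iff _ hx).mp (mem_van.mp ht x hx))
  · exact ⟨fun h => (hx (mem_basicOpen_le h)).elim, fun h => (hx (mem_basicOpen_le h)).elim⟩

theorem van_le_jacobson (U : Opens X) : van U ≤ Ideal.jacobson ⊥ := by
  intro s hs
  rw [Ideal.mem_jacobson_bot]
  intro r
  refine isUnit_of_forall_mem fun x hx => ?_
  rw [add_comm, mem_basicOpen_add (Ideal.mul_mem_right r _ hs)]
  exact mem_basicOpen_of_isUnit isUnit_one hx

theorem eq_of_locally {U : Opens X} (s t : Sec X U)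
    (h : ∀ x ∈ U, ∃ (V : Opens X) (hV : V ≤ U), x ∈ V ∧ res hV s = res hV t) : s = t := by
  choose V hV hxV he using h
  exact X.𝒪.eq_of_locally_eq' (fun x : U => V x.1 x.2) U (fun x => homOfLE (hV x.1 x.2))
    (fun x hx => Opens.mem_iSup.mpr ⟨⟨x, hx⟩, hxV x hx⟩) s t fun x => he x.1 x.2

/-- Two morphisms agreeing on a basis of the target agree. -/
theorem hom_ext_basis (φ₁ φ₂ : X ⟶ Y) (hb : φ₁.base = φ₂.base) {ι : Type*} (B : ι → Opens Y)
    (hB : ∀ (O : Opens Y) (y : Y), y ∈ O → ∃ i, y ∈ B i ∧ B i ≤ O)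
    (he : ∀ (i : ι) (W : Opens X) (h₁ : W ≤ (Opens.map φ₁.base).obj (B i))
      (h₂ : W ≤ (Opens.map φ₂.base).obj (B i)) (s : Sec Y (B i)),
        res h₁ (pull φ₁ (B i) s) = res h₂ (pull φ₂ (B i) s)) : φ₁ = φ₂ := by
  have key : ∀ (O : Opens Y) (W : Opens X) (h₁ : W ≤ (Opens.map φ₁.base).obj O)
      (h₂ : W ≤ (Opens.map φ₂.base).obj O) (s : Sec Y O),
        res h₁ (pull φ₁ O s) = res h₂ (pull φ₂ O s) := by
    intro O W h₁ h₂ s
    refine eq_of_locally _ _ fun x hx => ?_
    obtain ⟨i, hyi, hiO⟩ := hB O (φ₁.base x) (h₁ hx)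
    refine ⟨W ⊓ (Opens.map φ₁.base).obj (B i), inf_le_left, ⟨hx, hyi⟩, ?_⟩
    have h₂' : W ⊓ (Opens.map φ₁.base).obj (B i) ≤ (Opens.map φ₂.base).obj (B i) := by
      rw [← hb]; exact inf_le_right
    have := he i _ inf_le_right h₂' (res hiO s)
    rw [pull_res, pull_res, res_res, res_res] at this
    rw [res_res, res_res]
    exact this
  obtain ⟨⟨f₁, c₁⟩, l₁⟩ := φ₁
  obtain ⟨⟨f₂, c₂⟩, l₂⟩ := φ₂
  obtain rfl : f₁ = f₂ := hb
  suffices c₁ = c₂ by subst this; rfl
  ext O s
  have hk := key O _ le_rfl le_rfl s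
  rw [res_refl, res_refl] at hk
  exact hk

end GrothLib.HensSpec
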