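import Groth.Agent.Lib.HensSpec.Sections
import Mathlib.AlgebraicGeometry.AffineScheme

/-!
# The universal property of the Henselization along a closed subset
-/

universe u

open CategoryTheory Opposite TopologicalSpace AlgebraicGeometry

namespace GrothLib.HensSpec

theorem isHensAway_of_equiv {A A' B B' : Type u} [CommRing A] [CommRing A'] [CommRing B]
    [CommRing B'] (e : A' ≃+* A) (v : B' ≃+* B) {φ : A →+* B} {φ' : A' →+* B'}
    (hc : ∀ a, v (φ' a) = φ (e a)) {I : Ideal A} {I' : Ideal A'} (hI : ∀ a, a ∈ I' ↔ e a ∈ I)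
    {f : A} {f' : A'} (hf : e f' = f) (h : HensSch.IsHensAway A I f B φ) :
    HensSch.IsHensAway A' I' f' B' φ' := by
  obtain ⟨hu, hh, huniv⟩ := h
  have hI' : I'.map e.toRingHom = I := by
    refine le_antisymm (Ideal.map_le_iff_le_comap.mpr fun a ha => (hI a).mp ha) fun a ha => ?_
    obtain ⟨a', rfl⟩ := e.surjective a
    exact Ideal.mem_map_of_mem e.toRingHom ((hI a').mpr ha)
  have hcomp : v.toRingHom.comp φ' = φ.comp e.toRingHom := RingHom.ext hc
  have hJ : (I'.map φ').map v.toRingHom = I.map φ := by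
    rw [Ideal.map_map, hcomp, ← Ideal.map_map, hI']
  refine ⟨?_, ?_, fun C _ J g hC hIg hg => ?_⟩
  · have := hu.map v.symm
    rwa [← hf, ← hc, v.symm_apply_apply] at this
  · refine henselianRing_of_bijective v.toRingHom v.bijective (I'.map φ') (I.map φ) fun r => ?_
    rw [← hJ]
    refine ⟨fun hr => Ideal.mem_map_of_mem v.toRingHom hr, fun hr => ?_⟩
    obtain ⟨r', hr', he⟩ := (Ideal.mem_map_iff_of_surjective _ v.surjective).mp hr
    rwa [← v.injective he]
  · have h₁ : I.map (g.comp e.symm.toRingHom) ≤ J := Ideal.map_le_iff_le_comap.mpr fun a ha => by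
      obtain ⟨a', rfl⟩ := e.surjective a
      show g (e.symm (e a')) ∈ J
      rw [e.symm_apply_apply]
      exact hIg (Ideal.mem_map_of_mem g ((hI a').mpr ha))
    have h₂ : IsUnit (g.comp e.symm.toRingHom f) := by
      show IsUnit (g (e.symm f))
      rwa [← hf, e.symm_apply_apply]
    obtain ⟨k, hk, hk'⟩ := huniv C J (g.comp e.symm.toRingHom) hC h₁ h₂
    refine ⟨k.comp v.toRingHom, RingHom.ext fun a => ?_, fun k' hk'' => ?_⟩
    · show k (v (φ' a)) = g a
      rw [hc]
      exact (RingHom.congr_fun hk (e a)).trans (congrArg g (e.symm_apply_apply a))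
    · have he : k'.comp v.symm.toRingHom = k := hk' _ (RingHom.ext fun a => by
        obtain ⟨a', rfl⟩ := e.surjective a
        show k' (v.symm (φ (e a'))) = g (e.symm (e a'))
        rw [← hc, v.symm_apply_apply, e.symm_apply_apply]
        exact RingHom.congr_fun hk'' a')
      rw [← he, RingHom.comp_assoc, RingEquiv.symm_toRingHom_comp_toRingHom, RingHom.comp_id]

variable {X : Scheme.{u}} {Xh : LocallyRingedSpace.{u}} (ι : Xh ⟶ X.toLocallyRingedSpace)

/-- The map from the sections on an affine open to those of the Henselization on a basic open. -/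
noncomputable def chartMap (U : X.Opens) (f : Sec X.toLocallyRingedSpace U) :
    Sec X.toLocallyRingedSpace U →+* Sec Xh ((Opens.map ι.base).obj (X.basicOpen f)) :=
  (res (X := Xh) (U := (Opens.map ι.base).obj U) (V := (Opens.map ι.base).obj (X.basicOpen f))
    fun _ hx => X.basicOpen_le f hx).comp (pull ι U)

/-- An affine open over which the Henselization has the expected sections. -/
def IsChart (Y : Set X) (U : X.Opens) : Prop :=
  IsAffineOpen U ∧ ∀ f : Sec X.toLocallyRingedSpace U,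
    HensSch.IsHensAway (Sec X.toLocallyRingedSpace U) (vanOn U Y) f
      (Sec Xh ((Opens.map ι.base).obj (X.basicOpen f))) (chartMap ι U f)

theorem exists_isChart {Y : Set X} (hh : HensSch.IsHenselizationAlong X Y Xh ι) (x : X) (hx : x ∈ Y) :
    ∃ U : X.Opens, x ∈ U ∧ IsChart ι Y U := by
  obtain ⟨A, _, j, _, hxj, V, v, hv, π, hrange, hcomm, hS⟩ := hh.2.2.2 x hx
  haveI : PresheafedSpace.IsOpenImmersion v.toHom := inferInstance
  let U : X.Opens := j.opensRange
  refine ⟨U, hxj, isAffineOpen_opensRange j, fun f => ?_⟩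
  have htop : (⊤ : (Spec (CommRingCat.of A)).Opens) ≤ j ⁻¹ᵁ U := fun p _ => ⟨p, rfl⟩
  haveI : IsOpenImmersion j := inferInstance
  let e₁ : Sec X.toLocallyRingedSpace U →+* Sec (HensSch.specLRS A) ⊤ :=
    (res (X := HensSch.specLRS A) htop).comp (pull j.toLRSHom U)
  have he₁ : Function.Bijective e₁ := by
    show Function.Bijective (⇑(res (X := HensSch.specLRS A) htop) ∘ ⇑(pull j.toLRSHom U))
    refine Function.Bijective.comp ?_ (bijective_pull j.toLRSHom U subset_rfl)
    have hres : ∀ (O : Opens (HensSch.specLRS A)) (h : (⊤ : Opens (HensSch.specLRS A)) ≤ O),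
        Function.Bijective (res h) := by
      intro O h
      obtain rfl := top_le_iff.mp h
      rw [show ⇑(res h) = id from funext (res_refl h)]
      exact Function.bijective_id
    exact hres _ htop
  let e : Sec X.toLocallyRingedSpace U ≃+* A := (RingEquiv.ofBijective e₁ he₁).trans
    (Scheme.ΓSpecIso (CommRingCat.of A)).commRingCatIsoToRingEquiv
  have he : ∀ a, (Scheme.ΓSpecIso (CommRingCat.of A)).inv (e a) = e₁ a := fun a =>
    (Scheme.ΓSpecIso (CommRingCat.of A)).hom_inv_id_apply (e₁ a)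
  have hbo : ∀ (a : Sec X.toLocallyRingedSpace U) (p : PrimeSpectrum A),
      (j.base p ∈ X.basicOpen a ↔ e a ∉ p.asIdeal) := by
    intro a p
    have h1 := mem_basicOpen_res (X := HensSch.specLRS A) htop (pull j.toLRSHom U a) p
    have hb : (HensSch.specLRS A).toRingedSpace.basicOpen (U := ⊤)
        ((Scheme.ΓSpecIso (CommRingCat.of A)).inv (e a)) = PrimeSpectrum.basicOpen (e a) :=
      AlgebraicGeometry.basicOpen_eq_of_affine (R := CommRingCat.of A) (e a)
    rw [he] at hb
    rw [show res (X := HensSch.specLRS A) htop (pull j.toLRSHom U a) = e₁ a from rfl, hb,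
      mem_basicOpen_pull] at h1
    exact ⟨fun h => h1.mpr ⟨trivial, h⟩, fun h => (h1.mp h).2⟩
  let B : Opens Xh := (Opens.map ι.base).obj (X.basicOpen f)
  have hB : (B : Set Xh) ⊆ Set.range v.base := fun z hz => by
    rw [hrange]
    exact X.basicOpen_le f hz
  have hbase : ∀ w : V, ι.base (v.base w) = j.base (π.base w) := fun w =>
    congrArg (fun φ : V ⟶ X.toLocallyRingedSpace => φ.base w) hcomm
  have hBD : (Opens.map v.base).obj B = HensSch.dOpen π (e f) := by
    refine Opens.ext (Set.ext fun w => ?_)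
    show ι.base (v.base w) ∈ X.basicOpen f ↔ _
    rw [hbase, hbo]
    rfl
  let v₁ : Sec Xh B →+* Sec V (HensSch.dOpen π (e f)) := (res hBD.ge).comp (pull v B)
  have hv₁ : Function.Bijective v₁ := by
    show Function.Bijective (⇑(res hBD.ge) ∘ ⇑(pull v B))
    refine Function.Bijective.comp ?_ (bijective_pull v B hB)
    have hres : ∀ (O O' : Opens V) (h : O' ≤ O), O = O' → Function.Bijective (res h) := by
      rintro O O' h rfl
      rw [show ⇑(res h) = id from funext (res_refl h)]
      exact Function.bijective_id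
    exact hres _ _ _ hBD
  refine isHensAway_of_equiv e (RingEquiv.ofBijective v₁ hv₁) (fun a => ?_) (fun a => ?_) rfl
    (hS.2.2 (e f))
  · show v₁ (chartMap ι U f a) = res le_top (glob π (e a))
    show res hBD.ge (pull v B (res _ (pull ι U a))) =
      res le_top (pull π ⊤ ((Scheme.ΓSpecIso (CommRingCat.of A)).inv (e a)))
    rw [pull_res, res_res, ← pull_comp, he,
      show e₁ a = res (X := HensSch.specLRS A) htop (pull j.toLRSHom U a) from rfl, pull_res]
    refine Eq.trans ?_ (res_res _ _ _).symm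
    exact res_pull_congr hcomm U _ _ _ a
  · rw [mem_vanOn, PrimeSpectrum.mem_vanishingIdeal]
    constructor
    · intro h p hp
      exact not_not.mp fun hc => h (j.base p) ⟨p, rfl⟩ hp ((hbo a p).mpr hc)
    · rintro h _ ⟨p, rfl⟩ hy hb
      exact (hbo a p).mp hb (h p hy)

/-- The universal property. -/
theorem existsUnique_lift {Y : Set X} (hemb : Topology.IsEmbedding ι.base) (hY : Set.range ι.base = Y)
    (hch : ∀ x ∈ Y, ∃ U : X.Opens, x ∈ U ∧ IsChart ι Y U) (Z : LocallyRingedSpace.{u})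
    (hZ : ∀ W : Opens Z, HenselianRing (Sec Z W) (van W)) (g : Z ⟶ X.toLocallyRingedSpace)
    (hg : Set.range g.base ⊆ Y) : ∃! g' : Z ⟶ Xh, g' ≫ ι = g := by
  choose h hh using fun z => (hY.ge (hg ⟨z, rfl⟩) : g.base z ∈ Set.range ι.base)
  have hcont : Continuous h := by
    rw [hemb.toIsInducing.continuous_iff]
    exact (funext hh : ι.base ∘ h = g.base) ▸ g.base.hom.continuous
  let hb : Z.toTopCat ⟶ Xh.toTopCat := TopCat.ofHom ⟨h, hcont⟩
  -- basic opens
  let Idx := Σ U : {U : X.Opens // IsChart ι Y U}, Sec X.toLocallyRingedSpace U.1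
  let B : Idx → Opens Xh := fun i => (Opens.map ι.base).obj (X.basicOpen i.2)
  let P : Idx → Opens Z := fun i => (Opens.map hb).obj (B i)
  have hbasis : ∀ (O : Opens Xh) (y : Xh), y ∈ O → ∃ i, y ∈ B i ∧ B i ≤ O := by
    intro O y hy
    obtain ⟨O', hO', he⟩ := hemb.toIsInducing.isOpen_iff.mp O.isOpen
    have hyO' : ι.base y ∈ O' := by
      have : y ∈ ι.base ⁻¹' O' := he ▸ hy
      exact this
    obtain ⟨U, hyU, hU⟩ := hch (ι.base y) (hY.le ⟨y, rfl⟩)
    obtain ⟨k, hk, hyk⟩ := hU.1.exists_basicOpen_le (V := ⟨O', hO'⟩) ⟨ι.base y, hyO'⟩ hyU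
    refine ⟨⟨⟨U, hU⟩, k⟩, hyk, fun w hw => ?_⟩
    show w ∈ (O : Set Xh)
    rw [← he]
    exact hk hw
  have hgP : ∀ (i : Idx) (O : X.Opens), B i ≤ (Opens.map ι.base).obj O → ∀ z ∈ P i, g.base z ∈ O := by
    intro i O hO z hz
    rw [← hh z]
    exact hO hz
  have hPg : ∀ i : Idx, P i ≤ (Opens.map g.base).obj i.1.1 :=
    fun i z hz => X.basicOpen_le i.2 (hgP i _ le_rfl z hz)
  let α : ∀ i : Idx, Sec X.toLocallyRingedSpace i.1.1 →+* Sec Z (P i) := fun i =>
    (res (hPg i)).comp (pull g i.1.1)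
  -- elements of the ideal go to vanishing sections
  have hI : ∀ (i : Idx) (W : Opens Z) (hW : W ≤ P i),
      (vanOn i.1.1 Y).map ((res hW).comp (α i)) ≤ van W := by
    intro i W hW
    refine Ideal.map_le_iff_le_comap.mpr fun a ha => mem_van.mpr fun z hz hc => ?_
    rw [RingHom.comp_apply, mem_basicOpen_res, RingHom.comp_apply, mem_basicOpen_res,
      mem_basicOpen_pull] at hc
    exact mem_vanOn.mp ha (g.base z) (hPg i (hW hz)) (hg ⟨z, rfl⟩) hc.2.2
  have hf : ∀ (i : Idx) (W : Opens Z) (hW : W ≤ P i), IsUnit ((res hW).comp (α i) i.2) := by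
    intro i W hW
    refine isUnit_of_forall_mem fun z hz => ?_
    rw [RingHom.comp_apply, mem_basicOpen_res, RingHom.comp_apply, mem_basicOpen_res,
      mem_basicOpen_pull]
    exact ⟨hz, hW hz, hgP i _ le_rfl z (hW hz)⟩
  have homExt : ∀ (i : Idx) (W : Opens Z) (hW : W ≤ P i) (r₁ r₂ : Sec Xh (B i) →+* Sec Z W),
      (∀ a, r₁ (chartMap ι i.1.1 i.2 a) = res hW (α i a)) →
      (∀ a, r₂ (chartMap ι i.1.1 i.2 a) = res hW (α i a)) → r₁ = r₂ := by
    intro i W hW r₁ r₂ h₁ h₂
    exact ((i.1.2.2 i.2).2.2 (Sec Z W) (van W) ((res hW).comp (α i)) (hZ W) (hI i W hW)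
      (hf i W hW)).unique (RingHom.ext h₁) (RingHom.ext h₂)
  choose θ hθ hθu using fun i : Idx => (i.1.2.2 i.2).2.2 (Sec Z (P i)) (van (P i)) (α i) (hZ _)
    (by simpa [RingHom.ext (fun x => res_refl (le_refl (P i)) x) (g := RingHom.id _)] using hI i _ le_rfl)
    (by simpa [res_refl] using hf i _ le_rfl)
  have hθ' : ∀ (i : Idx) a, θ i (chartMap ι i.1.1 i.2 a) = α i a := fun i a =>
    RingHom.congr_fun (hθ i) a
  -- compatibility with all sections of `X`
  have compat : ∀ (i : Idx) (O : X.Opens) (hO : B i ≤ (Opens.map ι.base).obj O)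
      (hO' : P i ≤ (Opens.map g.base).obj O) (s : Sec X.toLocallyRingedSpace O),
      θ i (res hO (pull ι O s)) = res hO' (pull g O s) := by
    intro i O hO hO' s
    refine eq_of_locally _ _ fun z hz => ?_
    obtain ⟨k, hk, hzk⟩ := i.1.2.1.exists_basicOpen_le (V := O ⊓ X.basicOpen i.2)
      ⟨g.base z, hgP i O hO z hz, hgP i _ le_rfl z hz⟩ (hPg i hz)
    let i' : Idx := ⟨i.1, k⟩
    have hBB : B i' ≤ B i := fun w hw => (hk hw).2
    have hPP : P i' ≤ P i := fun w hw => hBB hw
    have hzi' : z ∈ P i' := by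
      show ι.base (h z) ∈ X.basicOpen k
      rw [hh]; exact hzk
    refine ⟨P i', hPP, hzi', ?_⟩
    have hnat : ∀ r, res hPP (θ i r) = θ i' (res hBB r) := fun r =>
      RingHom.congr_fun (homExt i (P i') hPP ((res hPP).comp (θ i)) ((θ i').comp (res hBB))
        (fun a => by rw [RingHom.comp_apply, hθ'])
        (fun a => by
          rw [RingHom.comp_apply,
            show res hBB (chartMap ι i.1.1 i.2 a) = chartMap ι i'.1.1 i'.2 a from res_res _ _ _, hθ']
          exact (res_res _ _ _).symm)) r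
    rw [hnat, res_res, res_res]
    have hkU : X.basicOpen k ≤ i.1.1.1 := X.basicOpen_le k
    have hkO : X.basicOpen k ≤ O := fun w hw => (hk hw).1
    haveI := i.1.2.1.isLocalization_basicOpen k
    obtain ⟨n, a, hn⟩ := IsLocalization.Away.surj (S := Sec X.toLocallyRingedSpace (X.basicOpen k)) k
      (res (X := X.toLocallyRingedSpace) hkO s)
    have hn' : res (X := X.toLocallyRingedSpace) hkO s * res (X := X.toLocallyRingedSpace) hkU k ^ n =
        res (X := X.toLocallyRingedSpace) hkU a := hn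
    have hP : P i' ≤ (Opens.map g.base).obj (X.basicOpen k) := fun w hw => hgP i' _ le_rfl w hw
    have hα : ∀ c, α i' c =
        res hP (pull g (X.basicOpen k) (res (X := X.toLocallyRingedSpace) hkU c)) := fun c => by
      rw [pull_res, res_res]; rfl
    have hφ : ∀ c, chartMap ι i'.1.1 i'.2 c =
        pull ι (X.basicOpen k) (res (X := X.toLocallyRingedSpace) hkU c) := fun c => by
      rw [pull_res]; rfl
    have h1 : θ i' (pull ι (X.basicOpen k) (res (X := X.toLocallyRingedSpace) hkO s)) * α i' k ^ n =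
        α i' a := by
      rw [← hθ' i' k, ← hθ' i' a, ← map_pow, ← map_mul, hφ, hφ, ← map_pow, ← map_mul, hn']
    have h2 : res hP (pull g (X.basicOpen k) (res (X := X.toLocallyRingedSpace) hkO s)) * α i' k ^ n =
        α i' a := by
      rw [hα, hα, ← map_pow, ← map_pow, ← map_mul, ← map_mul, hn']
    have hu : IsUnit (α i' k) := by simpa [res_refl] using hf i' _ le_rfl
    have h3 := (hu.pow n).mul_right_cancel (h1.trans h2.symm)
    rw [pull_res, pull_res, res_res] at h3
    exact h3
  have hnat : ∀ (i i' : Idx) (hBB : B i' ≤ B i) (hPP : P i' ≤ P i) r,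
      res hPP (θ i r) = θ i' (res hBB r) := by
    intro i i' hBB hPP r
    refine RingHom.congr_fun (homExt i (P i') hPP ((res hPP).comp (θ i)) ((θ i').comp (res hBB))
      (fun a => by rw [RingHom.comp_apply, hθ']) (fun a => ?_)) r
    rw [RingHom.comp_apply, show res hBB (chartMap ι i.1.1 i.2 a) =
      res (hBB.trans fun _ hx => X.basicOpen_le i.2 hx) (pull ι i.1.1 a) from res_res _ _ _,
      compat i' i.1.1 _ (hPP.trans (hPg i)) a]
    exact (res_res _ _ _).symm
  have hIsBasis : Opens.IsBasis (Set.range B) := by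
    rw [Opens.isBasis_iff_nbhd]
    intro O y hy
    obtain ⟨i, hyi, hiO⟩ := hbasis O y hy
    exact ⟨B i, ⟨i, rfl⟩, hyi, hiO⟩
  let F' : TopCat.Sheaf CommRingCat.{u} Xh.toTopCat :=
    (TopCat.Sheaf.pushforward CommRingCat.{u} hb).obj Z.𝒪
  let η : (inducedFunctor B).op ⋙ Xh.presheaf ⟶ (inducedFunctor B).op ⋙ F'.1 :=
    { app := fun i => CommRingCat.ofHom (θ i.unop)
      naturality := fun i j φ => by
        refine CommRingCat.hom_ext (RingHom.ext fun r => ?_)
        exact (hnat i.unop j.unop (leOfHom φ.unop.hom) (fun w hw => leOfHom φ.unop.hom hw) r).symm }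
  let c : Xh.presheaf ⟶ F'.1 := TopCat.Sheaf.restrictHomEquivHom Xh.presheaf F' hIsBasis η
  have hc : ∀ i, c.app (op (B i)) = CommRingCat.ofHom (θ i) := fun i =>
    TopCat.Sheaf.extend_hom_app Xh.presheaf F' hIsBasis η i
  let ψ : Z.toPresheafedSpace ⟶ Xh.toPresheafedSpace := { base := hb, c := c }
  have hlocal : ∀ z, IsLocalHom (ψ.stalkMap z).hom := by
    intro z
    refine ⟨fun t ht => ?_⟩
    obtain ⟨O, hzO, r, rfl⟩ := Xh.presheaf.exists_germ_eq t
    obtain ⟨i, hzi, hiO⟩ := hbasis O (h z) hzO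
    have hgerm : Xh.presheaf.germ O (h z) hzO r = Xh.presheaf.germ (B i) (h z) hzi (res hiO r) :=
      (TopCat.Presheaf.germ_res_apply Xh.presheaf (homOfLE hiO) (h z) hzi r).symm
    change IsUnit (ψ.stalkMap z (Xh.presheaf.germ O (h z) hzO r)) at ht
    show IsUnit (Xh.presheaf.germ O (h z) hzO r)
    rw [hgerm] at ht ⊢
    generalize res hiO r = r' at ht ⊢
    have ht₂ : IsUnit (Z.presheaf.germ (P i) z hzi (c.app (op (B i)) r')) :=
      Eq.mp (congrArg IsUnit (PresheafedSpace.stalkMap_germ_apply ψ (B i) z hzi r')) ht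
    clear ht
    have ht' : z ∈ Z.toRingedSpace.basicOpen (θ i r') := by
      refine (Z.toRingedSpace.mem_basicOpen _ z hzi).mpr ?_
      rw [show θ i r' = c.app (op (B i)) r' by rw [hc]; rfl]
      exact ht₂
    refine (Xh.toRingedSpace.mem_basicOpen _ (h z) hzi).mp ?_
    have hIB : (vanOn i.1.1 Y).map (chartMap ι i.1.1 i.2) ≤ van (B i) := by
      refine Ideal.map_le_iff_le_comap.mpr fun a ha => mem_van.mpr fun w hw hb' => ?_
      rw [chartMap, RingHom.comp_apply, mem_basicOpen_res, mem_basicOpen_pull] at hb'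
      exact mem_vanOn.mp ha (ι.base w) (X.basicOpen_le i.2 hw) (hY.le ⟨w, rfl⟩) hb'.2
    obtain ⟨a, n, hn, hax⟩ := exists_mem_basicOpen_iff (i.1.2.2 i.2) hIB r'
    refine (hax (h z) hzi).mpr ?_
    have hn' : θ i (r' * chartMap ι i.1.1 i.2 i.2 ^ n - chartMap ι i.1.1 i.2 a) ∈ van (P i) := by
      have := Ideal.mem_map_of_mem (θ i) hn
      rw [Ideal.map_map, hθ i] at this
      have h0 := hI i (P i) le_rfl
      rw [show (res (le_refl (P i))).comp (α i) = α i from RingHom.ext fun x => res_refl _ _] at h0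
      exact h0 this
    rw [map_sub, map_mul, map_pow, hθ', hθ'] at hn'
    have h4 : z ∈ Z.toRingedSpace.basicOpen (α i a) := by
      rw [← mem_basicOpen_add hn' z, add_sub_cancel, mem_basicOpen_mul]
      refine ⟨ht', mem_basicOpen_of_isUnit (IsUnit.pow n ?_) hzi⟩
      simpa [res_refl] using hf i _ le_rfl
    rw [RingHom.comp_apply, mem_basicOpen_res, mem_basicOpen_pull] at h4
    rw [chartMap, RingHom.comp_apply, mem_basicOpen_res, mem_basicOpen_pull]
    exact ⟨hzi, (hh z).symm ▸ h4.2⟩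
  let G : Z ⟶ Xh := ⟨ψ, hlocal⟩
  have hG : ∀ (i : Idx) (r : Sec Xh (B i)), pull G (B i) r = θ i r := fun i r =>
    congrArg (fun φ => φ r) (hc i)
  refine ⟨G, ?_, fun G' hG' => ?_⟩
  · refine hom_ext_basis (G ≫ ι) g (TopCat.hom_ext (ContinuousMap.ext hh)) (fun O : X.Opens => O)
      (fun O y hy => ⟨O, hy, le_rfl⟩) fun O W h₁ h₂ s => ?_
    refine eq_of_locally _ _ fun z hz => ?_
    obtain ⟨i, hzi, hiO⟩ := hbasis ((Opens.map ι.base).obj O) (h z) (h₁ hz)
    refine ⟨W ⊓ P i, inf_le_left, ⟨hz, hzi⟩, ?_⟩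
    have hPO : P i ≤ (Opens.map g.base).obj O := fun w hw => hgP i O hiO w hw
    rw [res_res, res_res, pull_comp]
    have e1 : res (inf_le_left.trans h₁ : W ⊓ P i ≤ _) (pull G _ (pull ι O s)) =
        res (inf_le_right : W ⊓ P i ≤ P i) (pull G (B i) (res hiO (pull ι O s))) := by
      rw [pull_res, res_res]
      rfl
    rw [e1, hG, compat i O hiO hPO s, res_res]
  · have hbase : G'.base = hb := by
      refine TopCat.hom_ext (ContinuousMap.ext fun z => hemb.injective ?_)
      exact (congrArg (fun φ : Z ⟶ X.toLocallyRingedSpace => φ.base z) hG').trans (hh z).symm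
    refine hom_ext_basis G' G hbase B hbasis fun i W h₁ h₂ s => ?_
    rw [hG]
    exact RingHom.congr_fun (homExt i W h₂ ((res h₁).comp (pull G' (B i))) ((res h₂).comp (θ i))
      (fun a => by
        show res h₁ (pull G' (B i) (res _ (pull ι i.1.1 a))) = res h₂ (res (hPg i) (pull g i.1.1 a))
        rw [pull_res, res_res, res_res, ← pull_comp]
        exact res_pull_congr hG' _ _ _ _ a)
      (fun a => by rw [RingHom.comp_apply, hθ'])) s

end GrothLib.HensSpec
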